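import Mathlib

set_option autoImplicit false

/-! Groups with a self-centralizing subgroup of prime order. -/

namespace Cfsg.Agent.Lib.SelfCentral

open Subgroup
open scoped Pointwise

variable {G : Type*} [Group G]

/-- The basic hypothesis: `x` has prime order `p` and its centralizer is `⟨x⟩`. -/
structure Setup (p : ℕ) (x : G) : Prop where
  hp : p.Prime
  hx : orderOf x = p
  hC : centralizer ({x} : Set G) = zpowers x

namespace Setup

variable {p : ℕ} {x : G}

lemma card_zpowers (h : Setup p x) : Nat.card (zpowers x) = p := by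
  rw [Nat.card_zpowers, h.hx]

lemma x_ne_one (h : Setup p x) : x ≠ 1 := by
  intro hx1
  have := h.hx
  rw [hx1, orderOf_one] at this
  exact h.hp.one_lt.ne this

lemma mem_centralizer_iff_commute {g y : G} : g ∈ centralizer ({y} : Set G) ↔ g * y = y * g := by
  rw [Subgroup.mem_centralizer_singleton_iff]

lemma zpowers_eq_of_mem (h : Setup p x) {y : G} (hy : y ∈ zpowers x) (hy1 : y ≠ 1) :
    zpowers y = zpowers x := by
  have := Fact.mk h.hp
  have : Finite (zpowers x) := by
    apply Nat.finite_of_card_ne_zero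
    rw [h.card_zpowers]; exact h.hp.ne_zero
  have hle : zpowers y ≤ zpowers x := (zpowers_le).2 hy
  refine Subgroup.eq_of_le_of_card_ge hle ?_
  rw [h.card_zpowers]
  have hdvd : Nat.card (zpowers y) ∣ p := by
    have := Subgroup.card_dvd_of_le hle
    rwa [h.card_zpowers] at this
  rcases (Nat.dvd_prime h.hp).1 hdvd with h1 | h2
  · exfalso
    apply hy1
    have := Subgroup.eq_bot_of_card_eq _ h1
    exact (zpowers_eq_bot.1 this)
  · exact h2.ge

lemma centralizer_eq_of_mem (h : Setup p x) {y : G} (hy : y ∈ zpowers x) (hy1 : y ≠ 1) :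
    centralizer ({y} : Set G) = zpowers x := by
  have hzp := h.zpowers_eq_of_mem hy hy1
  ext g
  rw [← h.hC, mem_centralizer_iff_commute, mem_centralizer_iff_commute]
  constructor
  · intro hg
    have hxy : x ∈ zpowers y := by rw [hzp]; exact mem_zpowers x
    obtain ⟨k, rfl⟩ := hxy
    have : Commute g y := hg
    exact (this.zpow_right k)
  · intro hg
    obtain ⟨k, rfl⟩ := hy
    have : Commute g x := hg
    exact (this.zpow_right k)

variable [Finite G]

/-- `⟨x⟩` is a Sylow `p`-subgroup. -/
lemma exists_sylow (h : Setup p x) : ∃ S : Sylow p G, (S : Subgroup G) = zpowers x := by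
  have := Fact.mk h.hp
  have hPp : IsPGroup p (zpowers x) := by
    apply IsPGroup.of_card (n := 1)
    rw [h.card_zpowers, pow_one]
  obtain ⟨Q, hQ⟩ := hPp.exists_le_sylow
  refine ⟨Q, le_antisymm ?_ hQ⟩
  have hQp : IsPGroup p (Q : Subgroup G) := Q.isPGroup'
  have : Nontrivial (Q : Subgroup G) := by
    refine ⟨⟨⟨x, hQ (mem_zpowers x)⟩, 1, ?_⟩⟩
    intro heq
    exact h.x_ne_one (congrArg Subtype.val heq)
  have : Nontrivial (center (Q : Subgroup G)) := hQp.center_nontrivial
  obtain ⟨⟨z, hz⟩, hz1⟩ := exists_ne (1 : center (Q : Subgroup G))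
  have hz1' : (z : G) ≠ 1 := by
    intro he
    apply hz1
    ext
    simpa using he
  have hzC : (z : G) ∈ zpowers x := by
    rw [← h.hC, mem_centralizer_iff_commute]
    have := (Subgroup.mem_center_iff.1 hz) ⟨x, hQ (mem_zpowers x)⟩
    exact (congrArg Subtype.val this).symm
  have hzp := h.zpowers_eq_of_mem hzC hz1'
  intro q hq
  rw [← h.hC, mem_centralizer_iff_commute]
  have hxz : x ∈ zpowers (z : G) := by rw [hzp]; exact mem_zpowers x
  obtain ⟨k, rfl⟩ := hxz
  have : Commute q (z : G) := by
    have := (Subgroup.mem_center_iff.1 hz) ⟨q, hq⟩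
    exact (congrArg Subtype.val this)
  exact this.zpow_right k


lemma of_mem (h : Setup p x) {u : G} (hu : u ∈ zpowers x) (hu1 : u ≠ 1) : Setup p u := by
  have hz := h.zpowers_eq_of_mem hu hu1
  refine ⟨h.hp, ?_, ?_⟩
  · rw [← Nat.card_zpowers, hz, h.card_zpowers]
  · rw [h.centralizer_eq_of_mem hu hu1, hz]

omit [Finite G] in
lemma conj (h : Setup p x) (g : G) : Setup p (g * x * g⁻¹) := by
  refine ⟨h.hp, ?_, ?_⟩
  · have : g * x * g⁻¹ = MulAut.conj g x := rfl
    rw [this, MulEquiv.orderOf_eq]; exact h.hx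
  · ext y
    rw [mem_centralizer_iff_commute, Subgroup.mem_zpowers_iff]
    have hkey : y * (g * x * g⁻¹) = (g * x * g⁻¹) * y ↔ (g⁻¹ * y * g) ∈ centralizer ({x} : Set G) := by
      rw [mem_centralizer_iff_commute]
      constructor
      · intro hy
        have := congrArg (fun z => g⁻¹ * z * g) hy
        simpa [mul_assoc] using this
      · intro hy
        have := congrArg (fun z => g * z * g⁻¹) hy
        simpa [mul_assoc] using this
    rw [hkey, h.hC, Subgroup.mem_zpowers_iff]
    constructor
    · rintro ⟨k, hk⟩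
      refine ⟨k, ?_⟩
      rw [conj_zpow, hk]
      group
    · rintro ⟨k, hk⟩
      refine ⟨k, ?_⟩
      rw [← hk, conj_zpow]
      group

lemma exists_conj_eq_of_card (h : Setup p x) (H : Subgroup G) (hH : Nat.card H = p) :
    ∃ g : G, ∀ y, y ∈ H ↔ g⁻¹ * y * g ∈ zpowers x := by
  have := Fact.mk h.hp
  obtain ⟨S, hS⟩ := h.exists_sylow
  have hcS : Nat.card (S : Subgroup G) = p := by rw [hS, h.card_zpowers]
  have hfac : p = p ^ (Nat.card G).factorization p := by
    have := S.card_eq_multiplicity
    rw [← this]; exact hcS.symm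
  let T : Sylow p G := Sylow.ofCard H (by rw [hH]; exact hfac)
  obtain ⟨g, hg⟩ := MulAction.exists_smul_eq G S T
  refine ⟨g, fun y => ?_⟩
  have hTH : (T : Subgroup G) = H := Sylow.coe_ofCard H _
  have hg' : MulAut.conj g • (S : Subgroup G) = H := by
    rw [← hTH, ← hg, Sylow.coe_subgroup_smul]
  rw [← hg', hS, Subgroup.mem_pointwise_smul_iff_inv_smul_mem]
  simp [MulAut.conj_inv_apply]

/-- Every element of order `p` again satisfies the hypothesis. -/
lemma of_orderOf (h : Setup p x) {y : G} (hy : orderOf y = p) : Setup p y := by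
  obtain ⟨g, hg⟩ := h.exists_conj_eq_of_card (zpowers y) (by rw [Nat.card_zpowers, hy])
  have hu : g⁻¹ * y * g ∈ zpowers x := (hg y).1 (mem_zpowers y)
  have hu1 : g⁻¹ * y * g ≠ 1 := by
    intro he
    have : y = 1 := by
      have h2 : g * (g⁻¹ * y * g) * g⁻¹ = y := by group
      rw [← h2, he]; group
    rw [this, orderOf_one] at hy
    exact h.hp.one_lt.ne hy
  have := (h.of_mem hu hu1).conj g
  have h2 : g * (g⁻¹ * y * g) * g⁻¹ = y := by group
  rwa [h2] at this

lemma not_mem_of_not_dvd (h : Setup p x) (S : Subgroup G) (hd : ¬ p ∣ Nat.card S) : x ∉ S := by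
  intro hx
  apply hd
  have : orderOf (⟨x, hx⟩ : S) ∣ Nat.card S := orderOf_dvd_natCard _
  rwa [Subgroup.orderOf_mk, h.hx] at this

lemma inf_eq_bot (h : Setup p x) (S : Subgroup G) (hd : ¬ p ∣ Nat.card S) :
    zpowers x ⊓ S = ⊥ := by
  rw [eq_bot_iff]
  rintro y ⟨hy, hyS⟩
  by_contra hy1
  rw [Subgroup.mem_bot] at hy1
  have hz := h.zpowers_eq_of_mem hy hy1
  apply h.not_mem_of_not_dvd S hd
  have : zpowers y ≤ S := (zpowers_le).2 hyS
  rw [hz] at this
  exact this (mem_zpowers x)

/-- A normal subgroup of order divisible by `p` contains `⟨x⟩`. -/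
lemma le_of_dvd (h : Setup p x) (S : Subgroup G) [hS : S.Normal] (hd : p ∣ Nat.card S) :
    zpowers x ≤ S := by
  have := Fact.mk h.hp
  obtain ⟨y, hy⟩ := exists_prime_orderOf_dvd_card' p hd
  have hy' : orderOf (y : G) = p := by rw [Subgroup.orderOf_coe]; exact hy
  obtain ⟨g, hg⟩ := h.exists_conj_eq_of_card (zpowers (y : G)) (by rw [Nat.card_zpowers, hy'])
  have hle : zpowers (y:G) ≤ S := (zpowers_le).2 y.2
  have hconj : ∀ u ∈ zpowers x, u ∈ S := by
    intro u hu
    have : g * u * g⁻¹ ∈ zpowers (y : G) := by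
      rw [hg]
      have h2 : g⁻¹ * (g * u * g⁻¹) * g = u := by group
      rwa [h2]
    have h3 := hle this
    have h4 := hS.conj_mem _ h3 g⁻¹
    have h5 : g⁻¹ * (g * u * g⁻¹) * g⁻¹⁻¹ = u := by group
    rwa [h5] at h4
  exact hconj

/-- Coset fixed point lemma: if `g` commutes with `x` modulo a normal subgroup `S` of order prime to
`p`, then `g` lies in `⟨x⟩ S`. -/
lemma exists_mem_zpowers_inv_mul_mem (h : Setup p x) (S : Subgroup G) [hS : S.Normal]
    (hd : ¬ p ∣ Nat.card S) (g : G) (hg : x * g * x⁻¹ * g⁻¹ ∈ S) :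
    ∃ y ∈ zpowers x, y⁻¹ * g ∈ S := by
  classical
  have := Fact.mk h.hp
  let φ := QuotientGroup.mk' S
  have hcomm : Commute (φ x) (φ g) := by
    have h1 : φ (x * g * x⁻¹ * g⁻¹) = 1 := by
      rw [← MonoidHom.mem_ker, QuotientGroup.ker_mk']; exact hg
    rw [map_mul, map_mul, map_mul, map_inv, map_inv] at h1
    have h2 : φ x * φ g = φ g * φ x := by
      have h3 : φ x * φ g * (φ x)⁻¹ = φ g := by
        calc φ x * φ g * (φ x)⁻¹ = (φ x * φ g * (φ x)⁻¹ * (φ g)⁻¹) * φ g := by group
          _ = φ g := by rw [h1, one_mul]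
      calc φ x * φ g = (φ x * φ g * (φ x)⁻¹) * φ x := by group
        _ = φ g * φ x := by rw [h3]
    exact h2
  have hcomm' : ∀ u ∈ zpowers x, Commute (φ u) (φ g) := by
    rintro u ⟨k, rfl⟩
    simp only [map_zpow]
    exact hcomm.zpow_left k
  let A := {y : G // φ y = φ g}
  letI : MulAction (zpowers x) A :=
    { smul := fun u y => ⟨(u : G) * y.1 * (u : G)⁻¹, by
        rw [map_mul, map_mul, map_inv, y.2]
        have := hcomm' u u.2
        rw [this.eq]; group⟩
      one_smul := fun y => by
        apply Subtype.ext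
        show ((1 : zpowers x) : G) * y.1 * ((1 : zpowers x) : G)⁻¹ = y.1
        simp
      mul_smul := fun u v y => by
        apply Subtype.ext
        show ((u * v : zpowers x) : G) * y.1 * ((u * v : zpowers x) : G)⁻¹
          = (u : G) * ((v : G) * y.1 * (v : G)⁻¹) * (u : G)⁻¹
        simp [mul_assoc] }
  have hPp : IsPGroup p (zpowers x) := by
    apply IsPGroup.of_card (n := 1)
    rw [h.card_zpowers, pow_one]
  have hcardA : Nat.card A = Nat.card S := by
    refine Nat.card_congr ⟨fun y => ⟨y.1⁻¹ * g, ?_⟩, fun s => ⟨g * (s : G)⁻¹, ?_⟩, ?_, ?_⟩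
    · apply (QuotientGroup.eq_one_iff _).1
      change φ (y.1⁻¹ * g) = 1
      rw [map_mul, map_inv, y.2]; group
    · have hs : φ (s : G) = 1 := by
        rw [← MonoidHom.mem_ker, QuotientGroup.ker_mk']; exact s.2
      rw [map_mul, map_inv, hs]; simp
    · intro y; apply Subtype.ext; simp
    · intro s; apply Subtype.ext; simp
  obtain ⟨y, hy⟩ := hPp.nonempty_fixed_point_of_prime_not_dvd_card A (by rwa [hcardA])
  have hyx : y.1 ∈ zpowers x := by
    rw [← h.hC, mem_centralizer_iff_commute]
    have := congrArg Subtype.val (hy ⟨x, mem_zpowers x⟩)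
    change x * y.1 * x⁻¹ = y.1 at this
    rw [mul_inv_eq_iff_eq_mul] at this
    exact this.symm
  refine ⟨y.1, hyx, ?_⟩
  apply (QuotientGroup.eq_one_iff _).1
  change φ (y.1⁻¹ * g) = 1
  rw [map_mul, map_inv, y.2]; group

/-- The image of `x` in `G/S` (with `S` normal of order prime to `p`) satisfies the hypothesis. -/
lemma quotient (h : Setup p x) (S : Subgroup G) [hS : S.Normal] (hd : ¬ p ∣ Nat.card S) :
    Setup p (QuotientGroup.mk x : G ⧸ S) := by
  have := Fact.mk h.hp
  refine ⟨h.hp, ?_, ?_⟩
  · apply orderOf_eq_prime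
    · rw [← QuotientGroup.mk_pow, ← h.hx, pow_orderOf_eq_one]; rfl
    · intro he
      apply h.not_mem_of_not_dvd S hd
      exact (QuotientGroup.eq_one_iff x).1 he
  · ext gq
    induction gq using QuotientGroup.induction_on with
    | H g =>
    rw [mem_centralizer_iff_commute]
    constructor
    · intro hc
      have hg : x * g * x⁻¹ * g⁻¹ ∈ S := by
        rw [← QuotientGroup.eq_one_iff]
        simp only [QuotientGroup.mk_mul, QuotientGroup.mk_inv]
        rw [← hc]; group
      obtain ⟨y, hy, hyS⟩ := h.exists_mem_zpowers_inv_mul_mem S hd g hg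
      obtain ⟨k, rfl⟩ := hy
      refine ⟨k, ?_⟩
      simp only
      rw [← QuotientGroup.mk_zpow]
      rw [QuotientGroup.eq]
      exact hyS
    · rintro ⟨k, hk⟩
      simp only at hk
      rw [← hk]
      exact ((Commute.refl (QuotientGroup.mk x : G ⧸ S)).zpow_left k).eq

/-- A normal subgroup of order prime to `p` has order `≡ 1 (mod p)`. -/
lemma card_mod_eq_one (h : Setup p x) (S : Subgroup G) [hS : S.Normal] (hd : ¬ p ∣ Nat.card S) :
    Nat.card S % p = 1 := by
  classical
  have := Fact.mk h.hp
  have hPp : IsPGroup p (zpowers x) := by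
    apply IsPGroup.of_card (n := 1)
    rw [h.card_zpowers, pow_one]
  letI : MulAction (zpowers x) S :=
    { smul := fun u s => ⟨(u : G) * s.1 * (u : G)⁻¹, hS.conj_mem _ s.2 _⟩
      one_smul := fun y => by
        apply Subtype.ext
        show ((1 : zpowers x) : G) * y.1 * ((1 : zpowers x) : G)⁻¹ = y.1
        simp
      mul_smul := fun u v y => by
        apply Subtype.ext
        show ((u * v : zpowers x) : G) * y.1 * ((u * v : zpowers x) : G)⁻¹
          = (u : G) * ((v : G) * y.1 * (v : G)⁻¹) * (u : G)⁻¹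
        simp [mul_assoc] }
  have hfix : MulAction.fixedPoints (zpowers x) S = {1} := by
    ext s
    rw [MulAction.mem_fixedPoints, Set.mem_singleton_iff]
    constructor
    · intro hs
      have hsx : (s : G) ∈ zpowers x := by
        rw [← h.hC, mem_centralizer_iff_commute]
        have := congrArg Subtype.val (hs ⟨x, mem_zpowers x⟩)
        change x * s.1 * x⁻¹ = s.1 at this
        rw [mul_inv_eq_iff_eq_mul] at this
        exact this.symm
      have : (s : G) ∈ zpowers x ⊓ S := ⟨hsx, s.2⟩
      rw [h.inf_eq_bot S hd, Subgroup.mem_bot] at this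
      exact Subtype.ext this
    · rintro rfl u
      apply Subtype.ext
      show (u : G) * ((1 : S) : G) * (u : G)⁻¹ = ((1 : S) : G)
      simp
  have hm := hPp.card_modEq_card_fixedPoints S
  rw [hfix] at hm
  have h1 : Nat.card (({1} : Set S) : Type _) = 1 := by simp
  rw [h1] at hm
  have := h.hp.one_lt
  rw [Nat.ModEq, Nat.mod_eq_of_lt this] at hm
  exact hm


/-- Stabilizers of subgroups of order `p` in a normal `p'`-subgroup are trivial, so `|S|` divides the
number of subgroups of order `p`. -/
lemma card_dvd_card_subgroups (h : Setup p x) (S : Subgroup G) [hS : S.Normal]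
    (hd : ¬ p ∣ Nat.card S) : Nat.card S ∣ Nat.card {H : Subgroup G // Nat.card H = p} := by
  classical
  let X := {H : Subgroup G // Nat.card H = p}
  letI : MulAction S X :=
    { smul := fun s H => ⟨H.1.map (MulAut.conj (s : G)).toMonoidHom, by
        rw [Subgroup.card_map_of_injective (MulAut.conj (s : G)).injective]; exact H.2⟩
      one_smul := fun H => by
        apply Subtype.ext
        change H.1.map (MulAut.conj ((1 : S) : G)).toMonoidHom = H.1
        ext y
        simp [Subgroup.mem_map]
      mul_smul := fun a b H => by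
        apply Subtype.ext
        change H.1.map (MulAut.conj ((a * b : S) : G)).toMonoidHom =
          (H.1.map (MulAut.conj (b : G)).toMonoidHom).map (MulAut.conj (a : G)).toMonoidHom
        rw [Subgroup.map_map]
        congr 1
        ext y
        simp [MulAut.conj_apply, mul_assoc] }
  have hstab : ∀ H : X, MulAction.stabilizer S H = ⊥ := by
    intro H
    rw [eq_bot_iff]
    intro s hs
    rw [MulAction.mem_stabilizer_iff] at hs
    have hs' : H.1.map (MulAut.conj (s : G)).toMonoidHom = H.1 := congrArg Subtype.val hs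
    -- pick a generator `y` of `H`
    have hHnt : Nontrivial H.1 := by
      rw [← Finite.one_lt_card_iff_nontrivial, H.2]; exact h.hp.one_lt
    obtain ⟨⟨y, hyH⟩, hy1⟩ := exists_ne (1 : H.1)
    have hy1' : y ≠ 1 := fun he => hy1 (Subtype.ext he)
    have hyo : orderOf y = p := by
      have hdvd : orderOf (⟨y, hyH⟩ : H.1) ∣ Nat.card H.1 := orderOf_dvd_natCard _
      rw [H.2, Subgroup.orderOf_mk] at hdvd
      rcases (Nat.dvd_prime h.hp).1 hdvd with h1 | h2
      · exact absurd (orderOf_eq_one_iff.1 h1) hy1'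
      · exact h2
    have hyz : zpowers y = H.1 := by
      apply Subgroup.eq_of_le_of_card_ge ((zpowers_le).2 hyH)
      rw [Nat.card_zpowers, hyo, H.2]
    have hy' : Setup p y := h.of_orderOf hyo
    -- `s y s⁻¹ ∈ H`, so `[s, y] ∈ H ∩ S = 1`.
    have h1 : (s : G) * y * (s : G)⁻¹ ∈ H.1 := by
      rw [← hs']
      exact ⟨y, hyH, rfl⟩
    have h2 : (s : G) * y * (s : G)⁻¹ * y⁻¹ ∈ H.1 := H.1.mul_mem h1 (H.1.inv_mem hyH)
    have h3 : (s : G) * y * (s : G)⁻¹ * y⁻¹ ∈ S := by
      have h4 : y * (s : G)⁻¹ * y⁻¹ ∈ S := hS.conj_mem _ (S.inv_mem s.2) y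
      have : (s : G) * y * (s : G)⁻¹ * y⁻¹ = (s : G) * (y * (s : G)⁻¹ * y⁻¹) := by group
      rw [this]
      exact S.mul_mem s.2 h4
    have h5 : (s : G) * y * (s : G)⁻¹ * y⁻¹ ∈ zpowers y ⊓ S := ⟨by rw [hyz]; exact h2, h3⟩
    rw [hy'.inf_eq_bot S hd, Subgroup.mem_bot] at h5
    have h6 : (s : G) ∈ zpowers y := by
      rw [← hy'.hC, mem_centralizer_iff_commute]
      have h7 : (s : G) * y * (s : G)⁻¹ = y := by
        rw [mul_inv_eq_one] at h5; exact h5
      rw [mul_inv_eq_iff_eq_mul] at h7
      exact h7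
    have h8 : (s : G) ∈ zpowers y ⊓ S := ⟨h6, s.2⟩
    rw [hy'.inf_eq_bot S hd, Subgroup.mem_bot] at h8
    rw [Subgroup.mem_bot]
    exact Subtype.ext h8
  have e := MulAction.selfEquivOrbitsQuotientProd hstab
  rw [Nat.card_congr e, Nat.card_prod]
  exact dvd_mul_left _ _

omit [Finite G] in
/-- Commutators of elements normalizing `⟨x⟩` lie in `⟨x⟩`. -/
lemma commutator_mem_of_mem_normalizer (h : Setup p x) {a b : G}
    (ha : a ∈ normalizer (zpowers x : Set G)) (hb : b ∈ normalizer (zpowers x : Set G)) :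
    a * b * a⁻¹ * b⁻¹ ∈ zpowers x := by
  have hax : a * x * a⁻¹ ∈ zpowers x := (mem_set_normalizer_iff.1 ha x).1 (mem_zpowers x)
  have hbx : b * x * b⁻¹ ∈ zpowers x := (mem_set_normalizer_iff.1 hb x).1 (mem_zpowers x)
  obtain ⟨k, hk⟩ := hax
  obtain ⟨l, hl⟩ := hbx
  simp only at hk hl
  have hab : (a * b) * x * (a * b)⁻¹ = x ^ (k * l) := by
    have : (a * b) * x * (a * b)⁻¹ = a * (b * x * b⁻¹) * a⁻¹ := by group
    rw [this, ← hl, ← conj_zpow, ← hk, zpow_mul]
  have hba : (b * a) * x * (b * a)⁻¹ = x ^ (k * l) := by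
    have : (b * a) * x * (b * a)⁻¹ = b * (a * x * a⁻¹) * b⁻¹ := by group
    rw [this, ← hk, ← conj_zpow, ← hl, ← zpow_mul, mul_comm]
  set w := (b * a) * x * (b * a)⁻¹ with hw
  have hw1 : w ≠ 1 := by
    intro he
    have : x = 1 := by
      have h2 : (b * a)⁻¹ * w * (b * a) = x := by rw [hw]; group
      rw [← h2, he]; group
    exact h.x_ne_one this
  have hwx : w ∈ zpowers x := by rw [hba]; exact ⟨k * l, rfl⟩
  rw [← h.centralizer_eq_of_mem hwx hw1, mem_centralizer_iff_commute]
  -- `c = a b a⁻¹ b⁻¹` conjugates `w` to `(a b) x (a b)⁻¹ = w`.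
  have hc : (a * b * a⁻¹ * b⁻¹) * w * (a * b * a⁻¹ * b⁻¹)⁻¹ = (a * b) * x * (a * b)⁻¹ := by
    rw [hw]; group
  rw [hab, ← hba] at hc
  rw [mul_inv_eq_iff_eq_mul] at hc
  exact hc

/-- Frattini: a normal subgroup containing `x` together with the normalizer generates `G`. -/
lemma normalizer_sup_eq_top (h : Setup p x) (S : Subgroup G) [hS : S.Normal]
    (hle : zpowers x ≤ S) : normalizer (zpowers x : Set G) ⊔ S = ⊤ := by
  have := Fact.mk h.hp
  obtain ⟨Q, hQ⟩ := h.exists_sylow
  have hQ' : (Q : Set G) = ((zpowers x : Subgroup G) : Set G) := by rw [← hQ]; rfl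
  have := Sylow.normalizer_sup_eq_top' (N := S) Q (by rw [show ((Q : Subgroup G) = zpowers x) from hQ]; exact hle)
  rwa [hQ'] at this

/-- A normal subgroup of order divisible by `p` contains the commutator subgroup. -/
lemma commutator_le_of_le (h : Setup p x) (S : Subgroup G) [hS : S.Normal]
    (hle : zpowers x ≤ S) : commutator G ≤ S := by
  have hsup := h.normalizer_sup_eq_top S hle
  rw [_root_.commutator_def, Subgroup.commutator_le]
  intro g₁ _ g₂ _
  have hg₁ : g₁ ∈ normalizer (zpowers x : Set G) ⊔ S := by rw [hsup]; trivial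
  have hg₂ : g₂ ∈ normalizer (zpowers x : Set G) ⊔ S := by rw [hsup]; trivial
  rw [Subgroup.mem_sup_of_normal_right] at hg₁ hg₂
  obtain ⟨n₁, hn₁, s₁, hs₁, rfl⟩ := hg₁
  obtain ⟨n₂, hn₂, s₂, hs₂, rfl⟩ := hg₂
  apply (QuotientGroup.eq_one_iff _).1
  have hs1 : ((s₁ : G) : G ⧸ S) = 1 := (QuotientGroup.eq_one_iff _).2 hs₁
  have hs2 : ((s₂ : G) : G ⧸ S) = 1 := (QuotientGroup.eq_one_iff _).2 hs₂
  have hc := hle (h.commutator_mem_of_mem_normalizer hn₁ hn₂)
  have hc' := (QuotientGroup.eq_one_iff _).2 hc
  simp only [commutatorElement_def, QuotientGroup.mk_mul, QuotientGroup.mk_inv, hs1, hs2,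
    mul_one, inv_one] at hc' ⊢
  exact hc'

/-- A normal subgroup of order divisible by `p` contains the commutator subgroup. -/
lemma commutator_le_of_dvd (h : Setup p x) (S : Subgroup G) [hS : S.Normal]
    (hd : p ∣ Nat.card S) : commutator G ≤ S :=
  h.commutator_le_of_le S (h.le_of_dvd S hd)

/-- The number of subgroups of order `p` is the index of the normalizer of `⟨x⟩`. -/
lemma card_subgroups_eq_index (h : Setup p x) :
    Nat.card {H : Subgroup G // Nat.card H = p} = (normalizer (zpowers x : Set G)).index := by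
  have := Fact.mk h.hp
  obtain ⟨Q, hQ⟩ := h.exists_sylow
  have hcQ : Nat.card (Q : Subgroup G) = p := by rw [show ((Q : Subgroup G) = zpowers x) from hQ, h.card_zpowers]
  have hfac : p ^ (Nat.card G).factorization p = p := by
    rw [← Q.card_eq_multiplicity]; exact hcQ
  have e : Sylow p G ≃ {H : Subgroup G // Nat.card H = p} :=
    { toFun := fun T => ⟨T, by rw [T.card_eq_multiplicity, hfac]⟩
      invFun := fun H => Sylow.ofCard H.1 (by rw [H.2, hfac])
      left_inv := fun T => by
        apply Sylow.ext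
        simp
      right_inv := fun H => by
        apply Subtype.ext
        simp }
  have hQ' : (Q : Set G) = ((zpowers x : Subgroup G) : Set G) := by rw [← hQ]; rfl
  rw [← Nat.card_congr e, Q.card_eq_index_normalizer, hQ']

/-- Counting the elements of order `p` by the subgroups they generate. -/
lemma card_orderOf_eq_mul (h : Setup p x) :
    Nat.card {g : G // orderOf g = p} = Nat.card {H : Subgroup G // Nat.card H = p} * (p - 1) := by
  classical
  let f : {g : G // orderOf g = p} → {H : Subgroup G // Nat.card H = p} :=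
    fun g => ⟨zpowers g.1, by rw [Nat.card_zpowers, g.2]⟩
  have hfib : ∀ H : {H : Subgroup G // Nat.card H = p},
      Nat.card {g : {g : G // orderOf g = p} // f g = H} = p - 1 := by
    intro H
    have e : {g : {g : G // orderOf g = p} // f g = H} ≃ {u : H.1 // u ≠ 1} :=
      { toFun := fun g => ⟨⟨g.1.1, by
            have := congrArg Subtype.val g.2
            change zpowers g.1.1 = H.1 at this
            rw [← this]; exact mem_zpowers _⟩, by
            intro he
            have he' : g.1.1 = 1 := congrArg Subtype.val he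
            have := g.1.2
            rw [he', orderOf_one] at this
            exact h.hp.one_lt.ne this⟩
        invFun := fun u => by
          have hu1 : (u.1 : G) ≠ 1 := fun he => u.2 (Subtype.ext he)
          have hdvd : orderOf u.1 ∣ Nat.card H.1 := orderOf_dvd_natCard _
          rw [H.2] at hdvd
          have hdvd' : orderOf (u.1 : G) ∣ p := by rw [Subgroup.orderOf_coe]; exact hdvd
          have hyo : orderOf (u.1 : G) = p := by
            rcases (Nat.dvd_prime h.hp).1 hdvd' with h1 | h2
            · exact absurd (orderOf_eq_one_iff.1 h1) hu1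
            · exact h2
          refine ⟨⟨u.1, hyo⟩, ?_⟩
          apply Subtype.ext
          change zpowers (u.1 : G) = H.1
          apply Subgroup.eq_of_le_of_card_ge ((zpowers_le).2 u.1.2)
          rw [Nat.card_zpowers, hyo, H.2]
        left_inv := fun g => by
          apply Subtype.ext; apply Subtype.ext; rfl
        right_inv := fun u => by
          apply Subtype.ext; apply Subtype.ext; rfl }
    rw [Nat.card_congr e]
    have hH : Fintype H.1 := Fintype.ofFinite _
    rw [Nat.card_eq_fintype_card]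
    rw [Fintype.card_subtype_compl, Fintype.card_subtype_eq, ← Nat.card_eq_fintype_card, H.2]
  have e := Equiv.sigmaFiberEquiv f
  have hFin : Fintype {H : Subgroup G // Nat.card H = p} := Fintype.ofFinite _
  rw [← Nat.card_congr e, Nat.card_sigma]
  simp only [hfib]
  simp [Nat.card_eq_fintype_card]

/-- Counting the elements of order `p` by their conjugacy classes. -/
lemma card_orderOf_eq_mul' (h : Setup p x) :
    Nat.card {g : G // orderOf g = p} =
      Nat.card {C : ConjClasses G // ∃ g ∈ C.carrier, orderOf g = p} * (Nat.card G / p) := by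
  classical
  have := Fintype.ofFinite G
  let f : {g : G // orderOf g = p} → {C : ConjClasses G // ∃ g ∈ C.carrier, orderOf g = p} :=
    fun g => ⟨ConjClasses.mk g.1, g.1, ConjClasses.mem_carrier_mk, g.2⟩
  have hfib : ∀ C : {C : ConjClasses G // ∃ g ∈ C.carrier, orderOf g = p},
      Nat.card {g : {g : G // orderOf g = p} // f g = C} = Nat.card G / p := by
    rintro ⟨C, g₀, hg₀, hg₀o⟩
    have hCe : C = ConjClasses.mk g₀ := by
      rw [ConjClasses.mem_carrier_iff_mk_eq] at hg₀
      exact hg₀.symm
    subst hCe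
    have e : {g : {g : G // orderOf g = p} // f g = ⟨ConjClasses.mk g₀, g₀, hg₀, hg₀o⟩} ≃
        (ConjClasses.mk g₀).carrier :=
      { toFun := fun g => ⟨g.1.1, by
            have := congrArg Subtype.val g.2
            change ConjClasses.mk g.1.1 = ConjClasses.mk g₀ at this
            rw [ConjClasses.mem_carrier_iff_mk_eq]; exact this⟩
        invFun := fun u => ⟨⟨u.1, by
            have := u.2
            rw [ConjClasses.mem_carrier_iff_mk_eq, ConjClasses.mk_eq_mk_iff_isConj] at this
            obtain ⟨c, hc⟩ := isConj_iff.1 this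
            have h9 : orderOf (c * u.1 * c⁻¹) = orderOf u.1 := by
              have : c * u.1 * c⁻¹ = MulAut.conj c u.1 := rfl
              rw [this, MulEquiv.orderOf_eq]
            rw [← hg₀o, ← h9, hc]⟩, by
            apply Subtype.ext
            have := u.2
            rw [ConjClasses.mem_carrier_iff_mk_eq] at this
            exact this⟩
        left_inv := fun g => by
          apply Subtype.ext; apply Subtype.ext; rfl
        right_inv := fun u => by
          apply Subtype.ext; rfl }
    rw [Nat.card_congr e]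
    rw [Nat.card_eq_fintype_card, ConjClasses.card_carrier g₀]
    have hst : Fintype.card (MulAction.stabilizer (ConjAct G) g₀) = p := by
      rw [← Nat.card_eq_fintype_card, ConjAct.stabilizer_eq_centralizer]
      have := (h.of_orderOf hg₀o).hC
      show Nat.card (centralizer ({g₀} : Set G)) = p
      rw [this, Nat.card_zpowers, hg₀o]
    rw [hst, Nat.card_eq_fintype_card]
  have e := Equiv.sigmaFiberEquiv f
  have hFin : Fintype {C : ConjClasses G // ∃ g ∈ C.carrier, orderOf g = p} := Fintype.ofFinite _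
  rw [← Nat.card_congr e, Nat.card_sigma]
  simp only [hfib]
  simp [Nat.card_eq_fintype_card]

/-- `t * m = p - 1`, with `t` the number of classes of elements of order `p` and `|N(⟨x⟩)| = p m`. -/
lemma classes_mul (h : Setup p x) (t m : ℕ)
    (ht : Nat.card {C : ConjClasses G // ∃ g ∈ C.carrier, orderOf g = p} = t)
    (hm : Nat.card (normalizer (zpowers x : Set G)) = p * m) : t * m = p - 1 := by
  have h1 := h.card_orderOf_eq_mul
  have h2 := h.card_orderOf_eq_mul'
  rw [h.card_subgroups_eq_index, ht] at *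
  rw [h1] at h2
  have hcardG : Nat.card G = (normalizer (zpowers x : Set G)).index * (p * m) := by
    rw [← hm, mul_comm, Subgroup.card_mul_index]
  have hdiv : Nat.card G / p = (normalizer (zpowers x : Set G)).index * m := by
    rw [hcardG]
    rw [show (normalizer (zpowers x : Set G)).index * (p * m) = p * ((normalizer (zpowers x : Set G)).index * m) by ring]
    exact Nat.mul_div_cancel_left _ h.hp.pos
  rw [hdiv] at h2
  have hpos : 0 < (normalizer (zpowers x : Set G)).index := Nat.pos_of_ne_zero Subgroup.FiniteIndex.index_ne_zero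
  have : (normalizer (zpowers x : Set G)).index * (p - 1) = (normalizer (zpowers x : Set G)).index * (t * m) := by
    rw [h2]; ring
  exact (Nat.eq_of_mul_eq_mul_left hpos this).symm

/-- The normalizer has order `p * m`. -/
lemma exists_card_normalizer (h : Setup p x) :
    ∃ m : ℕ, Nat.card (normalizer (zpowers x : Set G)) = p * m ∧ 0 < m := by
  have hle : zpowers x ≤ normalizer (zpowers x : Set G) := Subgroup.le_normalizer
  have hd := Subgroup.card_dvd_of_le hle
  rw [h.card_zpowers] at hd
  obtain ⟨m, hm⟩ := hd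
  refine ⟨m, hm, Nat.pos_of_ne_zero ?_⟩
  rintro rfl
  rw [mul_zero] at hm
  exact Nat.card_pos.ne' hm

/-- If the normalizer is bigger than `⟨x⟩`, then `x` lies in the commutator subgroup. -/
lemma zpowers_le_commutator (h : Setup p x) (hN : ¬ normalizer (zpowers x : Set G) ≤ zpowers x) :
    zpowers x ≤ commutator G := by
  obtain ⟨n, hn, hnP⟩ := SetLike.not_le_iff_exists.1 hN
  have hc : n * x * n⁻¹ * x⁻¹ ∈ commutator G := by
    rw [_root_.commutator_def, ← commutatorElement_def]
    exact Subgroup.commutator_mem_commutator (Subgroup.mem_top _) (Subgroup.mem_top _)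
  have hc2 : n * x * n⁻¹ * x⁻¹ ∈ zpowers x := by
    have hax : n * x * n⁻¹ ∈ zpowers x := (mem_set_normalizer_iff.1 hn x).1 (mem_zpowers x)
    exact (zpowers x).mul_mem hax ((zpowers x).inv_mem (mem_zpowers x))
  have hc1 : n * x * n⁻¹ * x⁻¹ ≠ 1 := by
    intro he
    apply hnP
    rw [← h.hC, mem_centralizer_iff_commute]
    rw [mul_inv_eq_one, mul_inv_eq_iff_eq_mul] at he
    exact he
  have hz := h.zpowers_eq_of_mem hc2 hc1
  rw [← hz, zpowers_le]
  exact hc


/-- Burnside transfer in this situation: when `N(⟨x⟩) = ⟨x⟩` the commutator subgroup is a normal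
`p`-complement. -/
lemma commutator_of_normalizer_le (h : Setup p x) (hN : normalizer (zpowers x : Set G) ≤ zpowers x) :
    (commutator G).index = p ∧ ¬ p ∣ Nat.card (commutator G) := by
  have := Fact.mk h.hp
  obtain ⟨Q, hQ⟩ := h.exists_sylow
  have hQ' : (Q : Set G) = ((zpowers x : Subgroup G) : Set G) := by rw [← hQ]; rfl
  have hcommQ : ∀ a ∈ zpowers x, ∀ b ∈ zpowers x, a * b = b * a := by
    rintro _ ⟨k, rfl⟩ _ ⟨l, rfl⟩
    simp only
    rw [← zpow_add, ← zpow_add, add_comm]
  have hP : normalizer (Q : Set G) ≤ centralizer (Q : Set G) := by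
    rw [hQ']
    intro n hn
    have hnx := hN hn
    rw [Subgroup.mem_centralizer_iff]
    intro y hy
    exact hcommQ _ hy _ hnx
  have hc := MonoidHom.ker_transferSylow_isComplement' Q hP
  set f := MonoidHom.transferSylow Q hP with hf
  have hKnot := MonoidHom.not_dvd_card_ker_transferSylow Q hP
  have hle : commutator G ≤ f.ker := by
    rw [_root_.commutator_def, Subgroup.commutator_le]
    intro a _ b _
    rw [MonoidHom.mem_ker, map_commutatorElement, commutatorElement_eq_one_iff_commute]
    apply Subtype.ext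
    have h1 : ((f a : Q) : G) ∈ zpowers x := by
      rw [← show ((Q : Subgroup G) = zpowers x) from hQ]; exact (f a).2
    have h2 : ((f b : Q) : G) ∈ zpowers x := by
      rw [← show ((Q : Subgroup G) = zpowers x) from hQ]; exact (f b).2
    exact hcommQ _ h1 _ h2
  have hnd : ¬ p ∣ Nat.card (commutator G) :=
    fun hd => hKnot (hd.trans (Subgroup.card_dvd_of_le hle))
  have hge : f.ker ≤ commutator G := by
    intro g hg
    have hg' : x * g * x⁻¹ * g⁻¹ ∈ commutator G := by
      rw [_root_.commutator_def, ← commutatorElement_def]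
      exact Subgroup.commutator_mem_commutator (Subgroup.mem_top _) (Subgroup.mem_top _)
    obtain ⟨y, hy, hyS⟩ := h.exists_mem_zpowers_inv_mul_mem (commutator G) hnd g hg'
    have hyK : y ∈ f.ker := by
      have h1 := hle hyS
      have : y = g * (y⁻¹ * g)⁻¹ := by group
      rw [this]
      exact f.ker.mul_mem hg (f.ker.inv_mem h1)
    have hyQ : y ∈ (Q : Subgroup G) := by rw [show ((Q : Subgroup G) = zpowers x) from hQ]; exact hy
    have hy1 : y = 1 := by
      have := hc.disjoint.le_bot ⟨hyK, hyQ⟩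
      simpa using this
    rw [hy1] at hyS
    simpa using hyS
  have heq : commutator G = f.ker := le_antisymm hle hge
  refine ⟨?_, hnd⟩
  rw [heq, hc.symm.index_eq_card, show ((Q : Subgroup G) = zpowers x) from hQ, h.card_zpowers]

omit [Finite G] in
/-- The hypothesis passes to subgroups containing `x`. -/
lemma subgroup (h : Setup p x) (A : Subgroup G) (hxA : x ∈ A) : Setup p (⟨x, hxA⟩ : A) := by
  refine ⟨h.hp, ?_, ?_⟩
  · rw [Subgroup.orderOf_mk]; exact h.hx
  · ext y
    rw [mem_centralizer_iff_commute, Subgroup.mem_zpowers_iff]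
    constructor
    · intro hy
      have hy' : (y : G) * x = x * y := congrArg Subtype.val hy
      have : (y : G) ∈ zpowers x := by
        rw [← h.hC, mem_centralizer_iff_commute]; exact hy'
      obtain ⟨k, hk⟩ := this
      refine ⟨k, Subtype.ext ?_⟩
      simpa using hk
    · rintro ⟨k, rfl⟩
      exact ((Commute.refl (⟨x, hxA⟩ : A)).zpow_left k).eq

/-- Index of `⟨x⟩` in its normalizer. -/
lemma relIndex_normalizer (h : Setup p x) {m : ℕ}
    (hm : Nat.card (normalizer (zpowers x : Set G)) = p * m) :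
    (zpowers x).relIndex (normalizer (zpowers x : Set G)) = m := by
  have hle : zpowers x ≤ normalizer (zpowers x : Set G) := Subgroup.le_normalizer
  have h1 := Subgroup.card_mul_index ((zpowers x).subgroupOf (normalizer (zpowers x : Set G)))
  rw [Nat.card_congr (Subgroup.subgroupOfEquivOfLe hle).toEquiv, h.card_zpowers, hm] at h1
  exact Nat.eq_of_mul_eq_mul_left h.hp.pos h1

/-- If the normalizer is bigger than `⟨x⟩`, the index of `G'` divides `m`. -/
lemma index_commutator_dvd (h : Setup p x) (hle : zpowers x ≤ commutator G) {m : ℕ}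
    (hm : Nat.card (normalizer (zpowers x : Set G)) = p * m) :
    (commutator G).index ∣ m := by
  have hsup := h.normalizer_sup_eq_top (commutator G) hle
  have h1 : (commutator G).relIndex (normalizer (zpowers x : Set G)) = (commutator G).index := by
    rw [← Subgroup.relIndex_sup_left, sup_comm, hsup, Subgroup.relIndex_top_right]
  rw [← h1, ← h.relIndex_normalizer hm]
  exact Subgroup.relIndex_dvd_of_le_left _ hle


omit [Finite G] in
/-- Every element of `G` commutes with `x` modulo `G'`. -/
lemma comm_mem_commutator' (a b : G) : a * b * a⁻¹ * b⁻¹ ∈ commutator G := by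
  rw [_root_.commutator_def, ← commutatorElement_def]
  exact Subgroup.commutator_mem_commutator (Subgroup.mem_top _) (Subgroup.mem_top _)

omit [Finite G] in
lemma comm_mem_commutator (g : G) : x * g * x⁻¹ * g⁻¹ ∈ commutator G := comm_mem_commutator' x g

/-- A normal subgroup of order prime to `p` lies in the commutator subgroup. -/
lemma le_commutator_of_not_dvd (h : Setup p x) (T : Subgroup G) [hT : T.Normal]
    (hd : ¬ p ∣ Nat.card T) : T ≤ commutator G := by
  intro s hs
  have hLnd : ¬ p ∣ Nat.card ↥(commutator G ⊓ T) :=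
    fun hd' => hd (hd'.trans (Subgroup.card_dvd_of_le inf_le_right))
  have hs' : x * s * x⁻¹ * s⁻¹ ∈ commutator G ⊓ T :=
    ⟨comm_mem_commutator s, T.mul_mem (hT.conj_mem _ hs _) (T.inv_mem hs)⟩
  obtain ⟨y, hy, hyL⟩ := h.exists_mem_zpowers_inv_mul_mem (commutator G ⊓ T) hLnd s hs'
  have hyT : y ∈ T := by
    have : y = s * (y⁻¹ * s)⁻¹ := by group
    rw [this]
    exact T.mul_mem hs (T.inv_mem hyL.2)
  have hy1 : y ∈ zpowers x ⊓ T := ⟨hy, hyT⟩
  rw [h.inf_eq_bot T hd, Subgroup.mem_bot] at hy1
  rw [hy1] at hyL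
  simpa using hyL.1

/-- Elementary fact: if `S` is normal and `T ⊓ S = ⊥`, then `|T ⊔ S| = |T| |S|`. -/
lemma card_sup_of_inf_eq_bot (T S : Subgroup G) [hS : S.Normal] (hi : T ⊓ S = ⊥) :
    Nat.card ↥(T ⊔ S) = Nat.card T * Nat.card S := by
  have hle : S ≤ T ⊔ S := le_sup_right
  have h1 := Subgroup.card_mul_index (S.subgroupOf (T ⊔ S))
  rw [Nat.card_congr (Subgroup.subgroupOfEquivOfLe hle).toEquiv] at h1
  have h2 : S.relIndex (T ⊔ S) = Nat.card T := by
    rw [Subgroup.relIndex_sup_right]
    have h3 : S.subgroupOf T = ⊥ := by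
      rw [eq_bot_iff]
      intro z hz
      rw [Subgroup.mem_subgroupOf] at hz
      have : (z : G) ∈ T ⊓ S := ⟨z.2, hz⟩
      rw [hi, Subgroup.mem_bot] at this
      rw [Subgroup.mem_bot]
      exact Subtype.ext this
    rw [Subgroup.relIndex, h3, Subgroup.index_bot]
  change Nat.card S * S.relIndex (T ⊔ S) = _ at h1
  rw [h2] at h1
  rw [← h1, mul_comm]

/-- A normal subgroup `S` of order prime to `p` meets the normalizer trivially. -/
lemma inf_normalizer_eq_bot (h : Setup p x) (S : Subgroup G) [hS : S.Normal] (hd : ¬ p ∣ Nat.card S) :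
    normalizer (zpowers x : Set G) ⊓ S = ⊥ := by
  rw [eq_bot_iff]
  rintro s ⟨hsN, hsS⟩
  have h1 : s * x * s⁻¹ * x⁻¹ ∈ zpowers x := by
    have hax : s * x * s⁻¹ ∈ zpowers x := (mem_set_normalizer_iff.1 hsN x).1 (mem_zpowers x)
    exact (zpowers x).mul_mem hax ((zpowers x).inv_mem (mem_zpowers x))
  have h2 : s * x * s⁻¹ * x⁻¹ ∈ S := by
    have h4 : x * s⁻¹ * x⁻¹ ∈ S := hS.conj_mem _ (S.inv_mem hsS) x
    have : s * x * s⁻¹ * x⁻¹ = s * (x * s⁻¹ * x⁻¹) := by group
    rw [this]
    exact S.mul_mem hsS h4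
  have h3 : s * x * s⁻¹ * x⁻¹ ∈ zpowers x ⊓ S := ⟨h1, h2⟩
  rw [h.inf_eq_bot S hd, Subgroup.mem_bot] at h3
  have h5 : s ∈ zpowers x := by
    rw [← h.hC, mem_centralizer_iff_commute]
    have h7 : s * x * s⁻¹ = x := by
      rw [mul_inv_eq_one] at h3; exact h3
    rw [mul_inv_eq_iff_eq_mul] at h7
    exact h7
  have h6 : s ∈ zpowers x ⊓ S := ⟨h5, hsS⟩
  rwa [h.inf_eq_bot S hd] at h6

end Setup

end Cfsg.Agent.Lib.SelfCentral
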